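import Cfsg.Agent.Spor.PX0
import Cfsg.Agent.Spor.J4G.E0

set_option autoImplicit false
set_option maxRecDepth 100000000
set_option Elab.async false

namespace Cfsg.Agent.Spor.J4R

theorem nm : band (PA.can J4G.A 2048) (band (lall (fun w => Nat.beq (PA.mul J4G.A 2048 (PA.evw J4G.A J4G.TT w J4G.A.one)) 2048) [[0], [2]]) (PA.neq J4G.A (PA.mul J4G.A 2048 (PA.evw J4G.A J4G.TT [4] J4G.A.one)) 2048)) = true := by decide +kernel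

theorem r1 : PA.isW J4G.A J4G.TT [0, 0] J4G.A.one = true := by decide +kernel

theorem r2 : PA.isW J4G.A J4G.TT [2, 2, 2] J4G.A.one = true := by decide +kernel

theorem r3 : PA.isW J4G.A J4G.TT [0, 2, 0, 2, 0, 2, 0, 2, 0, 2, 0, 2, 0, 2, 0, 2, 0, 2, 0, 2, 0, 2, 0, 2, 0, 2, 0, 2, 0, 2, 0, 2, 0, 2, 0, 2, 0, 2, 0, 2, 0, 2, 0, 2, 0, 2] J4G.A.one = true := by decide +kernel

theorem r4 : PA.isW J4G.A J4G.TT [1, 3, 0, 2, 1, 3, 0, 2, 1, 3, 0, 2, 1, 3, 0, 2, 1, 3, 0, 2, 1, 3, 0, 2, 1, 3, 0, 2, 1, 3, 0, 2, 1, 3, 0, 2, 1, 3, 0, 2, 1, 3, 0, 2, 1, 3, 0, 2] J4G.A.one = true := by decide +kernel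

theorem r5 : PA.isW J4G.A J4G.TT [1, 3, 1, 3, 0, 2, 0, 2, 1, 3, 1, 3, 0, 2, 0, 2, 1, 3, 1, 3, 0, 2, 0, 2, 1, 3, 1, 3, 0, 2, 0, 2, 1, 3, 1, 3, 0, 2, 0, 2] J4G.A.one = true := by decide +kernel

theorem r6 : PA.isW J4G.A J4G.TT [0, 2, 0, 2, 0, 3, 0, 2, 0, 3, 0, 2, 0, 3, 0, 2, 0, 2, 0, 3, 0, 2, 0, 3, 0, 2, 0, 3, 0, 2, 0, 2, 0, 3, 0, 2, 0, 3, 0, 2, 0, 3, 0, 2, 0, 2, 0, 3, 0, 2, 0, 3, 0, 2, 0, 3] J4G.A.one = true := by decide +kernel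

theorem r7 : PA.isW J4G.A J4G.TT [0, 2, 0, 2, 0, 3, 0, 2, 0, 2, 0, 3, 0, 2, 0, 2, 0, 3, 0, 2, 0, 3, 0, 3, 0, 2, 0, 3, 0, 3, 0, 2, 0, 3, 0, 3] J4G.A.one = true := by decide +kernel

theorem r8 : PA.isW J4G.A J4G.TT [4, 4] J4G.A.one = true := by decide +kernel

theorem r9 : PA.isW J4G.A J4G.TT [5, 3, 4, 2] J4G.A.one = true := by decide +kernel

theorem r10 : PA.isW J4G.A J4G.TT [5, 1, 3, 1, 3, 1, 3, 1, 2, 1, 2, 1, 3, 0, 3, 0, 2, 0, 2, 0, 2, 0, 4, 1, 3, 1, 3, 1, 3, 1, 2, 1, 2, 0, 3, 0, 3, 0, 2, 0, 2, 0, 2, 0] J4G.A.one = true := by decide +kernel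

theorem r11 : PA.isW J4G.A J4G.TT [5, 1, 2, 1, 3, 1, 3, 1, 3, 1, 3, 1, 2, 0, 2, 0, 2, 0, 2, 0, 3, 0, 4, 1, 2, 1, 3, 1, 3, 1, 3, 1, 3, 0, 2, 0, 2, 0, 2, 0, 2, 0, 3, 0] J4G.A.one = true := by decide +kernel

theorem r12 : PA.isW J4G.A J4G.TT [5, 1, 2, 1, 3, 1, 3, 1, 3, 1, 2, 1, 3, 0, 2, 0, 2, 0, 2, 0, 3, 0, 4, 1, 2, 1, 3, 1, 3, 1, 3, 1, 2, 0, 3, 0, 2, 0, 2, 0, 2, 0, 3, 0] J4G.A.one = true := by decide +kernel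

theorem r13 : PA.isW J4G.A J4G.TT [4, 2, 1, 3, 1, 3, 1, 3, 1, 2, 1, 2, 1, 2, 1, 2, 1, 3, 1, 3, 1, 3, 1, 2, 1, 3, 1, 2, 1, 2, 1, 2, 1, 2, 1, 3, 1, 3, 1, 3, 4, 2, 0, 2, 0, 2, 0, 3, 0, 3, 0, 3, 0, 3, 0, 2, 0, 3, 0, 2, 0, 2, 0, 2, 0, 3, 0, 3, 0, 3, 0, 3, 0, 2, 0, 2, 0, 2, 2, 1, 3, 1, 2, 1, 3, 1, 2, 1, 2, 1, 2, 1, 3, 1, 2, 1, 3, 1, 4, 0, 2, 0, 3, 0, 2, 0, 3, 0, 3, 0, 3, 0, 2, 0, 3, 0, 2, 0, 3, 0, 3] J4G.A.one = true := by decide +kernel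

end Cfsg.Agent.Spor.J4R
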