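import Cfsg.Agent.Spor.J4D.V.Main
import Cfsg.Agent.Spor.PX9
import Cfsg.Agent.Spor.J4R.C0

set_option autoImplicit false
set_option maxRecDepth 100000000
set_option Elab.async false

namespace Cfsg.Agent.Spor.J4R

theorem hp : ((J4G.A.p : ℕ) : ZMod 2) = 0 := by decide
instance instCharP : CharP (ZMod 2) J4G.A.p := ZMod.charP 2

noncomputable abbrev Ω : MRep J4G.A (ZMod 2) (GL (Fin J4G.A.d) (ZMod 2)) :=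
  MRep.gl J4G.A (ZMod 2) J4G.sq hp
theorem presF : Pres 3 0 J4N.RL (Ω.gen J4G.TT) :=
  ⟨fun _ h => absurd h (Nat.not_lt_zero _), (MRep.gl_gens J4G.gensOk).all_one (show AllP (fun w => PA.isW J4G.A J4G.TT w J4G.A.one = true) [[0, 0], [2, 2, 2], [0, 2, 0, 2, 0, 2, 0, 2, 0, 2, 0, 2, 0, 2, 0, 2, 0, 2, 0, 2, 0, 2, 0, 2, 0, 2, 0, 2, 0, 2, 0, 2, 0, 2, 0, 2, 0, 2, 0, 2, 0, 2, 0, 2, 0, 2], [1, 3, 0, 2, 1, 3, 0, 2, 1, 3, 0, 2, 1, 3, 0, 2, 1, 3, 0, 2, 1, 3, 0, 2, 1, 3, 0, 2, 1, 3, 0, 2, 1, 3, 0, 2, 1, 3, 0, 2, 1, 3, 0, 2, 1, 3, 0, 2], [1, 3, 1, 3, 0, 2, 0, 2, 1, 3, 1, 3, 0, 2, 0, 2, 1, 3, 1, 3, 0, 2, 0, 2, 1, 3, 1, 3, 0, 2, 0, 2, 1, 3, 1, 3, 0, 2, 0, 2], [0, 2, 0, 2, 0, 3, 0, 2, 0, 3, 0, 2, 0, 3, 0, 2, 0, 2, 0, 3, 0, 2, 0, 3, 0, 2, 0, 3, 0, 2, 0,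 2, 0, 3, 0, 2, 0, 3, 0, 2, 0, 3, 0, 2, 0, 2, 0, 3, 0, 2, 0, 3, 0, 2, 0, 3], [0, 2, 0, 2, 0, 3, 0, 2, 0, 2, 0, 3, 0, 2, 0, 2, 0, 3, 0, 2, 0, 3, 0, 3, 0, 2, 0, 3, 0, 3, 0, 2, 0, 3, 0, 3], [4, 4], [5, 3, 4, 2], [5, 1, 3, 1, 3, 1, 3, 1, 2, 1, 2, 1, 3, 0, 3, 0, 2, 0, 2, 0, 2, 0, 4, 1, 3, 1, 3, 1, 3, 1, 2, 1, 2, 0, 3, 0, 3, 0, 2, 0, 2, 0, 2, 0], [5, 1, 2, 1, 3, 1, 3, 1, 3, 1, 3, 1, 2, 0, 2, 0, 2, 0, 2, 0, 3, 0, 4, 1, 2, 1, 3, 1, 3, 1, 3, 1, 3, 0, 2, 0, 2, 0, 2, 0, 2, 0, 3, 0], [5, 1, 2, 1, 3, 1, 3, 1, 3, 1, 2, 1, 3, 0, 2, 0, 2, 0, 2, 0, 3, 0, 4, 1, 2, 1, 3, 1, 3, 1, 3, 1, 2, 0, 3, 0, 2, 0, 2, 0, 2, 0, 3, 0], [4, 2, 1, 3, 1, 3, 1, 3, 1, 2, 1, 2, 1, 2, 1, 2, 1, 3, 1, 3, 1, 3, 1, 2, 1, 3, 1, 2, 1, 2, 1, 2, 1, 2, 1, 3, 1, 3, 1, 3, 4, 2, 0, 2, 0,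 2, 0, 3, 0, 3, 0, 3, 0, 3, 0, 2, 0, 3, 0, 2, 0, 2, 0, 2, 0, 3, 0, 3, 0, 3, 0, 3, 0, 2, 0, 2, 0, 2, 2, 1, 3, 1, 2, 1, 3, 1, 2, 1, 2, 1, 2, 1, 3, 1, 2, 1, 3, 1, 4, 0, 2, 0, 3, 0, 2, 0, 3, 0, 3, 0, 3, 0, 2, 0, 3, 0, 2, 0, 3, 0, 3]] from AllP.cons r1 (AllP.cons r2 (AllP.cons r3 (AllP.cons r4 (AllP.cons r5 (AllP.cons r6 (AllP.cons r7 (AllP.cons r8 (AllP.cons r9 (AllP.cons r10 (AllP.cons r11 (AllP.cons r12 (AllP.cons r13 (AllP.nil))))))))))))))⟩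

theorem hom : ∃ ρ : J4N.P →* GL (Fin J4G.A.d) (ZMod 2), ∀ j < 3, ρ (J4N.p j) = Ω.gen J4G.TT j :=
  J4N.bound.exists_hom (by norm_num) J4N.pres presF J4N.lbP

theorem inj : Function.Injective hom.choose :=
  inj_of_coatom J4N.coatomP J4N.coreP _ (g := ev (atm 3 J4N.p) [4]) (by
    rw [ev_atm_map' hom.choose_spec, gsub_map' fun j hj => hom.choose_spec j (hj.trans (by decide)),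
      ← wsub_eq_gsub (N := 3) (W := [[0], [2]]) _ (by decide) (by decide)]
    exact (MRep.gl_gens J4G.gensOk).not_mem nm)

/-- the affine representation -/
noncomputable def X : MRep J4G.A (ZMod 2) J4N.P := Ω.comp hom.choose inj
theorem gens : X.Gens J4G.TT (atm 3 J4N.p) := (MRep.gl_gens J4G.gensOk).comp inj hom.choose_spec

end Cfsg.Agent.Spor.J4R
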